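import Groth.Agent.SubtrLib.Chain
import Groth.Agent.H8ProCons.Basic
import Groth.Agent.Props12.KerReduced
import Groth.Agent.H8ProCons.Image
import Groth.Agent.H8ProCons.MaxPoint
import Groth.Prelude.Def_W4c2submetdescSubtr

/-! S-subtrusive morphisms. -/

set_option autoImplicit false
universe u

noncomputable section

open CategoryTheory CategoryTheory.Limits AlgebraicGeometry Topology TopologicalSpace

namespace Groth.Agent.SubtrLib

theorem exists_specializes_of_mem_closure_proCons {X : Scheme.{u}} {E : Set X}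
    (hE : ProCons.IsProConstructible E) {x : X} (hx : x ∈ closure E) : ∃ e ∈ E, e ⤳ x := by
  obtain ⟨_, ⟨W, hW, rfl⟩, hxW, -⟩ :=
    X.isBasis_affineOpens.exists_subset_of_mem_open (Set.mem_univ x) isOpen_univ
  have : CompactSpace ↥(W : Set X) := isCompact_iff_compactSpace.mp hW.isCompact
  have : QuasiSober ↥(W : Set X) := W.2.isOpenEmbedding_subtypeVal.quasiSober
  have := H8ProCons.quasiSeparatedSpace_of_isAffineOpen hW
  have hx' : (⟨x, hxW⟩ : ↥(W : Set X)) ∈ closure (Subtype.val ⁻¹' E) := by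
    rw [closure_subtype]
    have h := mem_closure_iff.1 hx
    refine mem_closure_iff.2 fun O hO hxO => ?_
    obtain ⟨y, hyO, hyE⟩ := h (O ∩ W) (hO.inter W.2) ⟨hxO, hxW⟩
    exact ⟨y, hyO.1, ⟨y, hyO.2⟩, hyE, rfl⟩
  obtain ⟨e, he, hes⟩ := H8ProCons.exists_specializes_of_mem_closure
    (H8ProCons.isClosed_cons_of_isProConstructible hE hW) hx'
  exact ⟨e, he, hes.map continuous_subtype_val⟩

/-- A specialization is realised by a valuation ring. -/
theorem exists_valuation_map {Y : Scheme.{u}} {y' y : Y} (h : y' ⤳ y) :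
    ∃ (V : Type u) (_ : CommRing V) (_ : IsDomain V) (_ : ValuationRing V)
      (g : Spec (CommRingCat.of V) ⟶ Y),
      g (⟨⊥, Ideal.isPrime_bot⟩ : PrimeSpectrum V) = y' ∧ g (IsLocalRing.closedPoint V) = y := by
  obtain ⟨s, hs⟩ : ∃ s : Spec (Y.presheaf.stalk y), Y.fromSpecStalk y s = y' :=
    (Y.range_fromSpecStalk (x := y)).ge h
  let R := Y.presheaf.stalk y
  let L := FractionRing (R ⧸ s.asIdeal)
  let φ : R →+* L := (algebraMap (R ⧸ s.asIdeal) L).comp (Ideal.Quotient.mk _)
  have hφ : s.asIdeal = RingHom.ker φ := by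
    rw [RingHom.ker_comp_of_injective _ (IsFractionRing.injective _ _), Ideal.mk_ker]
  obtain ⟨V, hV, P, hP, hPm, hP0, hPc⟩ := exists_valuation_chain 1 φ
    ![s.asIdeal, IsLocalRing.maximalIdeal R]
    (Fin.forall_fin_two.2 ⟨s.isPrime, inferInstanceAs (IsLocalRing.maximalIdeal R).IsPrime⟩)
    (Fin.monotone_iff_le_succ.2 fun i => by
      rw [Fin.fin_one_eq_zero i]; exact IsLocalRing.le_maximalIdeal s.isPrime.ne_top) hφ
  have : (P 1).IsPrime := hP 1
  let V' := V.ofPrime (P 1)
  let ι : V →+* V' := algebraMap V (V.ofPrime (P 1))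
  let ψ : R →+* V' := ι.comp (φ.codRestrict V.toSubring hV)
  refine ⟨V', inferInstance, inferInstance, inferInstance,
    Spec.map (CommRingCat.ofHom ψ) ≫ Y.fromSpecStalk y, ?_, ?_⟩
  · rw [← hs]
    change Y.fromSpecStalk y (PrimeSpectrum.comap ψ ⟨⊥, Ideal.isPrime_bot⟩) = _
    congr 1
    refine PrimeSpectrum.ext ?_
    change Ideal.comap ψ ⊥ = _
    refine Eq.trans ?_ hφ.symm
    ext r
    simp only [Ideal.mem_comap, Submodule.mem_bot, RingHom.mem_ker]
    exact Subtype.ext_iff
  · refine Eq.trans ?_ (Scheme.fromSpecStalk_closedPoint (X := Y) (x := y))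
    change Y.fromSpecStalk y (PrimeSpectrum.comap ψ (IsLocalRing.closedPoint V')) = _
    congr 1
    refine PrimeSpectrum.ext ?_
    change Ideal.comap ψ (IsLocalRing.maximalIdeal V') = IsLocalRing.maximalIdeal R
    rw [← Ideal.comap_comap]
    have : Ideal.comap ι (IsLocalRing.maximalIdeal V') = P 1 :=
      IsLocalization.AtPrime.under_maximalIdeal V' (P 1)
    rw [this]
    exact hPc 1

theorem surjective_of_isSSubtrusive {X Y : Scheme.{u}} {f : X ⟶ Y} (hf : Subtr.IsSSubtrusive f) :
    Function.Surjective f := fun y => by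
  obtain ⟨x, x', -, hx, -⟩ := hf (specializes_rfl (x := y))
  exact ⟨x, hx⟩

/-- S-subtrusivity is tested on valuation rings. -/
theorem univSSubtrusive_of_valuation {X Y : Scheme.{u}} (f : X ⟶ Y)
    (h : ∀ (V : Type u) [CommRing V] [IsDomain V] [ValuationRing V] (g : Spec (CommRingCat.of V) ⟶ Y),
      ∃ x x' : ↥(pullback f g), x' ⤳ x ∧ pullback.snd f g x = IsLocalRing.closedPoint V ∧
        pullback.snd f g x' = (⟨⊥, Ideal.isPrime_bot⟩ : PrimeSpectrum V)) :
    Subtr.UnivSSubtrusive f := by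
  intro X' Y' i₁ i₂ f' sq y y' hy
  obtain ⟨V, _, _, _, g, hg', hg⟩ := exists_valuation_map hy
  obtain ⟨x, x', hxx, hx, hx'⟩ := h V (g ≫ i₂)
  let l : pullback f (g ≫ i₂) ⟶ X' := sq.flip.lift (pullback.fst f (g ≫ i₂)) (pullback.snd f (g ≫ i₂) ≫ g)
    (by rw [pullback.condition, Category.assoc])
  have hl : l ≫ f' = pullback.snd f (g ≫ i₂) ≫ g := sq.flip.lift_snd _ _ _
  refine ⟨l x, l x', hxx.map l.continuous, ?_, ?_⟩
  · have := congrArg (fun m => m x) hl
    exact this.trans ((congrArg g hx).trans hg)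
  · have := congrArg (fun m => m x') hl
    exact this.trans ((congrArg g hx').trans hg')

theorem isSSubtrusive_of_generalizing {X Y : Scheme.{u}} (f : X ⟶ Y) (hs : Function.Surjective f)
    (hg : GeneralizingMap f) : Subtr.IsSSubtrusive f := fun y y' h => by
  obtain ⟨x, rfl⟩ := hs y
  obtain ⟨x', hx', hfx'⟩ := hg h
  exact ⟨x, x', hx', rfl, hfx'⟩

theorem univSSubtrusive_of_flat {Z X Y : Scheme.{u}} (i : Z ⟶ X) (f : X ⟶ Y) [Flat (i ≫ f)]
    [Surjective (i ≫ f)] : Subtr.UnivSSubtrusive f := by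
  refine univSSubtrusive_of_valuation f fun V _ _ _ g => ?_
  have : Flat (pullback.snd (i ≫ f) g) := inferInstance
  have : Surjective (pullback.snd (i ≫ f) g) := inferInstance
  have hS : Subtr.IsSSubtrusive (pullback.snd (i ≫ f) g) :=
    isSSubtrusive_of_generalizing _ (pullback.snd (i ≫ f) g).surjective
      (Flat.generalizingMap (pullback.snd (i ≫ f) g))
  let l : pullback (i ≫ f) g ⟶ pullback f g :=
    pullback.map (i ≫ f) g f g i (𝟙 _) (𝟙 _) (by simp) (by simp)
  have hl : l ≫ pullback.snd f g = pullback.snd (i ≫ f) g :=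
    (pullback.lift_snd _ _ _).trans (Category.comp_id _)
  obtain ⟨x, x', hxx, hx, hx'⟩ := hS ((PrimeSpectrum.le_iff_specializes
    (⟨⊥, Ideal.isPrime_bot⟩ : PrimeSpectrum V) (IsLocalRing.closedPoint V)).1 bot_le)
  exact ⟨l x, l x', hxx.map l.continuous, (congrArg (fun m => m x) hl).trans hx,
    (congrArg (fun m => m x') hl).trans hx'⟩

theorem spec_bot_specializes (V : Type u) [CommRing V] [IsDomain V] (y : Spec (CommRingCat.of V)) :
    (⟨⊥, Ideal.isPrime_bot⟩ : PrimeSpectrum V) ⤳ y :=
  (PrimeSpectrum.le_iff_specializes (⟨⊥, Ideal.isPrime_bot⟩ : PrimeSpectrum V) y).1 bot_le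

/-- A lifted pair over a valuation ring gives a valuation ring covering it. -/
theorem exists_valuation_surjective {V : Type u} [CommRing V] [IsDomain V] [ValuationRing V]
    {X : Scheme.{u}} (f : X ⟶ Spec (CommRingCat.of V)) {x x' : X} (h : x' ⤳ x)
    (hx : f x = IsLocalRing.closedPoint V) (hx' : f x' = (⟨⊥, Ideal.isPrime_bot⟩ : PrimeSpectrum V)) :
    ∃ (W : Type u) (_ : CommRing W) (_ : IsDomain W) (_ : ValuationRing W)
      (g : Spec (CommRingCat.of W) ⟶ X), Surjective (g ≫ f) := by
  obtain ⟨W, _, _, _, g, hg', hg⟩ := exists_valuation_map h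
  refine ⟨W, inferInstance, inferInstance, inferInstance, g, ?_⟩
  let χ : V →+* W := (Spec.preimage (g ≫ f)).hom
  have hχ : Spec.map (CommRingCat.ofHom χ) = g ≫ f := Spec.map_preimage _
  have e1 : PrimeSpectrum.comap χ (⟨⊥, Ideal.isPrime_bot⟩ : PrimeSpectrum W) =
      (⟨⊥, Ideal.isPrime_bot⟩ : PrimeSpectrum V) := by
    change (Spec.map (CommRingCat.ofHom χ)) _ = _
    rw [hχ]; exact (congrArg f hg').trans hx'
  have e2 : PrimeSpectrum.comap χ (IsLocalRing.closedPoint W) = IsLocalRing.closedPoint V := by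
    change (Spec.map (CommRingCat.ofHom χ)) _ = _
    rw [hχ]; exact (congrArg f hg).trans hx
  letI : Algebra V W := χ.toAlgebra
  have hinj : Function.Injective χ := (RingHom.injective_iff_ker_eq_bot χ).2
    (congrArg PrimeSpectrum.asIdeal e1)
  have : Module.IsTorsionFree V W := Module.isTorsionFree_iff_algebraMap_injective.2 hinj
  have : Module.Flat V W := Module.Flat.flat_iff_torsion_eq_bot_of_isBezout.2
    (Submodule.isTorsionFree_iff_torsion_eq_bot.1 inferInstance)
  have : IsLocalHom (algebraMap V W) :=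
    ((IsLocalRing.local_hom_TFAE χ).out 4 0).1 (congrArg PrimeSpectrum.asIdeal e2)
  have : Module.FaithfullyFlat V W := Module.FaithfullyFlat.of_flat_of_isLocalHom
  rw [← hχ]
  exact ⟨PrimeSpectrum.comap_surjective_of_faithfullyFlat (A := V) (B := W)⟩

/-- An integral scheme dominating a valuation ring is flat over it. -/
theorem flat_of_generic {V : Type u} [CommRing V] [IsDomain V] [ValuationRing V] {Z : Scheme.{u}}
    [IsIntegral Z] (f : Z ⟶ Spec (CommRingCat.of V))
    (h : f (genericPoint Z) = (⟨⊥, Ideal.isPrime_bot⟩ : PrimeSpectrum V)) : Flat f := by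
  rw [IsZariskiLocalAtSource.iff_of_openCover (P := @Flat) Z.affineOpenCover.openCover]
  intro i
  let R := (Z.affineOpenCover.X i)
  have hspec : ∀ (m : Spec R ⟶ Spec (CommRingCat.of V)), ((Subsingleton R) ∨
      (∃ _ : IsDomain R, RingHom.ker (Spec.preimage m).hom = ⊥)) → Flat m := by
    intro m hm
    rw [← Spec.map_preimage m, HasRingHomProperty.Spec_iff (P := @Flat)]
    letI : Algebra V R := (Spec.preimage m).hom.toAlgebra
    change Module.Flat V R
    rcases hm with hm | ⟨_, hk⟩
    · infer_instance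
    · have : Module.IsTorsionFree V R := Module.isTorsionFree_iff_algebraMap_injective.2
        ((RingHom.injective_iff_ker_eq_bot _).2 hk)
      exact Module.Flat.flat_iff_torsion_eq_bot_of_isBezout.2
        (Submodule.isTorsionFree_iff_torsion_eq_bot.1 inferInstance)
  refine hspec (Z.affineOpenCover.f i ≫ f) ?_
  by_cases hne : Nonempty (Spec R)
  · right
    have : IsIntegral (Spec R) := isIntegral_of_isOpenImmersion (Z.affineOpenCover.f i)
    have : IsDomain R := (affine_isIntegral_iff R).1 inferInstance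
    refine ⟨this, ?_⟩
    have hg : Z.affineOpenCover.f i (genericPoint (Spec R)) = genericPoint Z :=
      genericPoint_eq_of_isOpenImmersion (Z.affineOpenCover.f i)
    have h0 : (Spec.map (Spec.preimage (Z.affineOpenCover.f i ≫ f))) (genericPoint (Spec R)) =
        (⟨⊥, Ideal.isPrime_bot⟩ : PrimeSpectrum V) := by
      rw [Spec.map_preimage]
      exact (congrArg f hg).trans h
    rw [genericPoint_eq_bot_of_affine] at h0
    exact congrArg PrimeSpectrum.asIdeal h0
  · left
    rcases subsingleton_or_nontrivial R with h' | h'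
    · exact h'
    · exact absurd (inferInstanceAs (Nonempty (PrimeSpectrum R))) hne

theorem tfae_valuation (V : Type u) [CommRing V] [IsDomain V] [ValuationRing V] {X : Scheme.{u}}
    (f : X ⟶ Spec (CommRingCat.of V)) :
    List.TFAE
    [ Subtr.UnivSSubtrusive f,
      Subtr.IsSSubtrusive f,
      ∀ y : Spec (CommRingCat.of V), ∃ x : X,
        x ∈ closure (f ⁻¹' {(⟨⊥, Ideal.isPrime_bot⟩ : PrimeSpectrum V)}) ∧ f x = y,
      ∃ x x' : X, x' ⤳ x ∧ f x = IsLocalRing.closedPoint V ∧
        f x' = (⟨⊥, Ideal.isPrime_bot⟩ : PrimeSpectrum V),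
      ∃ (W : Type u) (_ : CommRing W) (_ : IsDomain W) (_ : ValuationRing W)
        (g : Spec (CommRingCat.of W) ⟶ X), Surjective (g ≫ f),
      ∃ (Z : Scheme.{u}) (i : Z ⟶ X), IsClosedImmersion i ∧ Flat (i ≫ f) ∧ Surjective (i ≫ f)] := by
  tfae_have 1 → 2 := fun h => h (𝟙 X) (𝟙 _) f (IsPullback.of_vert_isIso ⟨by simp⟩)
  tfae_have 2 → 3 := fun h y => by
    obtain ⟨x, x', hxx, hx, hx'⟩ := h (spec_bot_specializes V y)
    refine ⟨x, ?_, hx⟩
    refine closure_mono (Set.singleton_subset_iff.2 ?_) (specializes_iff_mem_closure.1 hxx)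
    exact hx'
  tfae_have 3 → 4 := fun h => by
    obtain ⟨x, hx, hfx⟩ := h (IsLocalRing.closedPoint V)
    obtain ⟨x', hx', hxx⟩ := exists_specializes_of_mem_closure_proCons
      (H8ProCons.isProConstructible_preimage f (H8ProCons.isProConstructible_singleton _)) hx
    exact ⟨x, x', hxx, hfx, hx'⟩
  tfae_have 4 → 5 := fun ⟨x, x', hxx, hx, hx'⟩ => exists_valuation_surjective f hxx hx hx'
  tfae_have 5 → 6 := fun ⟨W, _, _, _, g, hg⟩ => by
    let η : Spec (CommRingCat.of W) := (⟨⊥, Ideal.isPrime_bot⟩ : PrimeSpectrum W)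
    have hη : f (g η) = (⟨⊥, Ideal.isPrime_bot⟩ : PrimeSpectrum V) := by
      obtain ⟨w, hw⟩ := (g ≫ f).surjective (⟨⊥, Ideal.isPrime_bot⟩ : PrimeSpectrum V)
      have h1 := ((spec_bot_specializes W w).map (g ≫ f).continuous)
      rw [hw] at h1
      exact (h1.antisymm (spec_bot_specializes V _)).eq
    let Zc : Closeds X := ⟨closure {g η}, isClosed_closure⟩
    let J := Scheme.IdealSheafData.vanishingIdeal Zc
    have hr : Set.range J.subschemeι = closure {g η} := by
      rw [Scheme.IdealSheafData.range_subschemeι, Scheme.IdealSheafData.coe_support_vanishingIdeal]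
      rfl
    have : IsReduced J.subscheme := Props12.isReduced_subscheme_vanishingIdeal Zc
    obtain ⟨z₀, hz₀⟩ : g η ∈ Set.range J.subschemeι := hr ▸ subset_closure rfl
    have : IrreducibleSpace J.subscheme := by
      have hcl : closure ({z₀} : Set J.subscheme) = Set.univ := by
        rw [J.subschemeι.isEmbedding.isInducing.closure_eq_preimage_closure_image,
          Set.image_singleton, hz₀, ← hr, Set.preimage_range]
      exact (irreducibleSpace_def J.subscheme).2 (by rw [Set.top_eq_univ, ← hcl]; exact isIrreducible_singleton.closure)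
    have : IsIntegral J.subscheme := isIntegral_of_irreducibleSpace_of_isReduced _
    refine ⟨J.subscheme, J.subschemeι, inferInstance, ?_, ⟨fun y => ?_⟩⟩
    · refine flat_of_generic (J.subschemeι ≫ f) ?_
      have h1 : genericPoint J.subscheme ⤳ z₀ := genericPoint_specializes _
      have h2 := h1.map (J.subschemeι ≫ f).continuous
      rw [show (J.subschemeι ≫ f) z₀ = (⟨⊥, Ideal.isPrime_bot⟩ : PrimeSpectrum V) from
        (congrArg f hz₀).trans hη] at h2
      exact (h2.antisymm (spec_bot_specializes V _)).eq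
    · obtain ⟨w, hw⟩ := (g ≫ f).surjective y
      obtain ⟨z, hz⟩ : g w ∈ Set.range J.subschemeι :=
        hr ▸ specializes_iff_mem_closure.1 ((spec_bot_specializes W w).map g.continuous)
      exact ⟨z, (congrArg f hz).trans hw⟩
  tfae_have 6 → 1 := fun ⟨Z, i, _, _, _⟩ => univSSubtrusive_of_flat i f
  tfae_finish

end Groth.Agent.SubtrLib
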