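import Mathlib

/-! A failure of pair lifting over a valuation ring already happens over a finitely generated stage. -/

set_option autoImplicit false
universe u

noncomputable section

namespace Groth.Agent.SubtrLib

open TensorProduct IsLocalRing

/-- An algebra over a local domain has a pair of primes over the generic and the closed point. -/
def HasPair (V : Type u) [CommRing V] [IsDomain V] [IsLocalRing V] (W : Type u) [CommRing W]
    [Algebra V W] : Prop :=
  ∃ Q' Q : Ideal W, Q'.IsPrime ∧ Q.IsPrime ∧ Q' ≤ Q ∧ Q'.comap (algebraMap V W) = ⊥ ∧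
    Q.comap (algebraMap V W) = maximalIdeal V

theorem exists_witness (V : Type u) [CommRing V] [IsDomain V] [IsLocalRing V] (W : Type u) [CommRing W]
    [Algebra V W] (h : ¬ HasPair V W) :
    ∃ (t : W) (v : V) (n : ℕ) (m : Fin n → V) (b : Fin n → W), v ≠ 0 ∧ algebraMap V W v * t = 0 ∧
      (∀ i, m i ∈ maximalIdeal V) ∧ t + ∑ i, algebraMap V W (m i) * b i = 1 := by
  classical
  let T : Ideal W :=
    { carrier := {w | ∃ v : V, v ≠ 0 ∧ algebraMap V W v * w = 0}
      add_mem' := fun {a b} ⟨v, hv, ha⟩ ⟨v', hv', hb⟩ => ⟨v * v', mul_ne_zero hv hv', by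
        rw [map_mul, mul_add]; linear_combination (algebraMap V W v') * ha + (algebraMap V W v) * hb⟩
      zero_mem' := ⟨1, one_ne_zero, mul_zero _⟩
      smul_mem' := fun c x ⟨v, hv, hx⟩ => ⟨v, hv, by
        rw [smul_eq_mul]; linear_combination c * hx⟩ }
  have htop : T ⊔ (maximalIdeal V).map (algebraMap V W) = ⊤ := by
    by_contra hne
    obtain ⟨Q, hQ, hle⟩ := Ideal.exists_le_maximal _ hne
    have := hQ.isPrime
    let M : Submonoid W := (nonZeroDivisors V).map (algebraMap V W : V →+* W).toMonoidHom ⊔ Q.primeCompl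
    have hdis : Disjoint ((⊥ : Ideal W) : Set W) M := by
      rw [Set.disjoint_left]
      intro z hz hzM
      obtain ⟨a, ⟨v, hv, rfl⟩, s, hs, hvs⟩ := Submonoid.mem_sup.1 hzM
      have hz0 : algebraMap V W v * s = 0 := by
        rw [(Submodule.mem_bot W).1 hz] at hvs; exact hvs
      exact hs (hle (Ideal.mem_sup_left ⟨v, nonZeroDivisors.ne_zero hv, hz0⟩))
    obtain ⟨Q', hQ', -, hdQ⟩ := Ideal.exists_le_prime_disjoint (⊥ : Ideal W) M hdis
    refine h ⟨Q', Q, hQ', inferInstance, ?_, ?_, ?_⟩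
    · intro x hx
      by_contra hxQ
      exact Set.disjoint_left.1 hdQ hx ((le_sup_right : Q.primeCompl ≤ M) hxQ)
    · refine le_bot_iff.1 fun v hv => (Submodule.mem_bot V).2 ?_
      by_contra hv0
      exact Set.disjoint_left.1 hdQ hv
        ((le_sup_left : _ ≤ M) ⟨v, mem_nonZeroDivisors_of_ne_zero hv0, rfl⟩)
    · refine ((maximalIdeal.isMaximal V).eq_of_le (Ideal.comap_ne_top _ hQ.ne_top) ?_).symm
      exact Ideal.map_le_iff_le_comap.1 (le_sup_right.trans hle)
  obtain ⟨t, ⟨v, hv, hvt⟩, z, hz, htz⟩ := Submodule.mem_sup.1 (htop.ge (Submodule.mem_top (x := (1 : W))))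
  obtain ⟨n, f, g, hfg⟩ := Submodule.mem_span_set'.1 (show z ∈ Submodule.span W _ from hz)
  choose m hm hmg using fun i => (g i).2
  refine ⟨t, v, n, m, f, hv, hvt, hm, ?_⟩
  rw [← htz, ← hfg]
  congr 1
  refine Finset.sum_congr rfl fun i _ => ?_
  rw [smul_eq_mul, hmg i, mul_comm]

variable {A : Type u} [CommRing A] {V : Type u} [CommRing V] [Algebra A V]
  {B : Type u} [CommRing B] [Algebra A B]

/-- The map induced on tensor products with `B`. -/
def tmap {C D : Type u} [CommRing C] [CommRing D] [Algebra A C] [Algebra A D] (φ : C →ₐ[A] D) :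
    C ⊗[A] B →ₐ[A] D ⊗[A] B :=
  Algebra.TensorProduct.map φ (AlgHom.id A B)

theorem tmap_comp {C D E : Type u} [CommRing C] [CommRing D] [CommRing E] [Algebra A C] [Algebra A D]
    [Algebra A E] (φ : C →ₐ[A] D) (ψ : D →ₐ[A] E) (x : C ⊗[A] B) :
    tmap (ψ.comp φ) x = tmap ψ (tmap φ x) := by
  induction x using TensorProduct.induction_on with
  | zero => simp
  | tmul c b => rfl
  | add x y hx hy => simp only [map_add, hx, hy]

theorem tmap_algebraMap {C D : Type u} [CommRing C] [CommRing D] [Algebra A C] [Algebra A D]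
    (φ : C →ₐ[A] D) (c : C) :
    tmap (B := B) φ (algebraMap C (C ⊗[A] B) c) = algebraMap D (D ⊗[A] B) (φ c) :=
  congrArg₂ (fun (p : D) (q : B) => p ⊗ₜ[A] q) rfl rfl

theorem tmap_rTensor {C D : Type u} [CommRing C] [CommRing D] [Algebra A C] [Algebra A D]
    (φ : C →ₐ[A] D) (x : C ⊗[A] B) : tmap φ x = LinearMap.rTensor B φ.toLinearMap x := by
  induction x using TensorProduct.induction_on with
  | zero => simp
  | tmul c b => rfl
  | add x y hx hy => simp only [map_add, hx, hy]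

theorem exists_fg_of_eq {S : Subalgebra A V} (hS : S.FG) {x y : S ⊗[A] B}
    (h : tmap S.val x = tmap S.val y) :
    ∃ (S' : Subalgebra A V) (hle : S ≤ S'), S'.FG ∧
      tmap (Subalgebra.inclusion hle) x = tmap (Subalgebra.inclusion hle) y := by
  rw [tmap_rTensor, tmap_rTensor] at h
  obtain ⟨S', hle, hfg, he⟩ := TensorProduct.Algebra.eq_of_fg_of_subtype_eq hS h
  exact ⟨S', hle, hfg, by rw [tmap_rTensor, tmap_rTensor]; exact he⟩

theorem exists_stage [IsDomain V] [IsLocalRing V] (h : ¬ HasPair V (V ⊗[A] B)) :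
    ∃ S : Subalgebra A V, S.FG ∧ ∀ (S' : Subalgebra A V), S ≤ S' → ∀ (D : Type u) [CommRing D]
      [IsDomain D] [IsLocalRing D] [Algebra A D] (φ : S' →ₐ[A] D), Function.Injective φ →
      (∀ s : S', (s : V) ∈ maximalIdeal V → φ s ∈ maximalIdeal D) → ¬ HasPair D (D ⊗[A] B) := by
  classical
  obtain ⟨t, v, n, m, b, hv, hvt, hm, ht⟩ := exists_witness V _ h
  obtain ⟨S₁, hS₁, t₁, ht₁⟩ := TensorProduct.Algebra.exists_of_fg t
  choose Sb hSb bb hbb using fun i => TensorProduct.Algebra.exists_of_fg (b i)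
  let S₀ : Subalgebra A V :=
    (S₁ ⊔ Algebra.adjoin A ({v} ∪ Set.range m)) ⊔ Finset.univ.sup Sb
  have hfin : ({v} ∪ Set.range m).Finite := (Set.finite_singleton v).union (Set.finite_range m)
  have hS₀ : S₀.FG := by
    refine ((hS₁.sup ?_).sup ?_)
    · rw [← hfin.coe_toFinset]; exact Subalgebra.fg_adjoin_finset _
    · exact Finset.sup_induction Subalgebra.fg_bot (fun _ h _ h' => h.sup h') fun i _ => hSb i
  have hle₁ : S₁ ≤ S₀ := le_sup_left.trans le_sup_left
  have hleb : ∀ i, Sb i ≤ S₀ := fun i => (Finset.le_sup (Finset.mem_univ i)).trans le_sup_right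
  have hmem : ∀ x ∈ ({v} ∪ Set.range m : Set V), x ∈ S₀ := fun x hx =>
    (le_sup_right.trans le_sup_left : Algebra.adjoin A _ ≤ S₀) (Algebra.subset_adjoin hx)
  let v₀ : S₀ := ⟨v, hmem v (Or.inl rfl)⟩
  let m₀ : Fin n → S₀ := fun i => ⟨m i, hmem _ (Or.inr ⟨i, rfl⟩)⟩
  let t₀ : S₀ ⊗[A] B := tmap (Subalgebra.inclusion hle₁) t₁
  let b₀ : Fin n → S₀ ⊗[A] B := fun i => tmap (Subalgebra.inclusion (hleb i)) (bb i)
  have htt : tmap S₀.val t₀ = t := by
    rw [← tmap_comp, tmap_rTensor]; exact ht₁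
  have hbt : ∀ i, tmap S₀.val (b₀ i) = b i := fun i => by
    rw [← tmap_comp, tmap_rTensor]; exact hbb i
  obtain ⟨S₂, h₀₂, hS₂, e1⟩ := exists_fg_of_eq hS₀ (x := algebraMap S₀ _ v₀ * t₀) (y := 0) (by
    rw [map_mul, tmap_algebraMap, htt, map_zero]; exact hvt)
  obtain ⟨S₃, h₀₃, hS₃, e2⟩ := exists_fg_of_eq hS₀
    (x := t₀ + ∑ i, algebraMap S₀ _ (m₀ i) * b₀ i) (y := 1) (by
    rw [map_add, map_sum, map_one, htt]
    simp only [map_mul, tmap_algebraMap, hbt]
    exact ht)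
  refine ⟨S₂ ⊔ S₃, hS₂.sup hS₃, fun S' hle D _ _ _ _ φ hφ hloc ⟨Q', Q, hQ', hQ, hQQ, hb', hm'⟩ => ?_⟩
  let ι₂ := Subalgebra.inclusion (le_sup_left.trans hle : S₂ ≤ S')
  let ι₃ := Subalgebra.inclusion (le_sup_right.trans hle : S₃ ≤ S')
  let θ := Subalgebra.inclusion (h₀₂.trans (le_sup_left.trans hle) : S₀ ≤ S')
  let Θ : S₀ ⊗[A] B →ₐ[A] D ⊗[A] B := tmap (φ.comp θ)
  have E1 : algebraMap D _ (φ (θ v₀)) * Θ t₀ = 0 := by
    have := congrArg (tmap (φ.comp ι₂)) e1
    rw [← tmap_comp, map_zero, map_zero] at this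
    rw [show (φ.comp ι₂).comp (Subalgebra.inclusion h₀₂) = φ.comp θ from rfl, map_mul,
      tmap_algebraMap] at this
    exact this
  have E2 : Θ t₀ + ∑ i, algebraMap D _ (φ (θ (m₀ i))) * Θ (b₀ i) = 1 := by
    have := congrArg (tmap (φ.comp ι₃)) e2
    rw [← tmap_comp, map_one, map_one] at this
    rw [show (φ.comp ι₃).comp (Subalgebra.inclusion h₀₃) = φ.comp θ from rfl, map_add, map_sum] at this
    simp only [map_mul, tmap_algebraMap] at this
    exact this
  have hv₀ : φ (θ v₀) ≠ 0 := fun h0 => hv (congrArg Subtype.val ((map_eq_zero_iff φ hφ).1 h0) : _)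
  have htQ : Θ t₀ ∈ Q' := by
    refine (hQ'.mem_or_mem (E1 ▸ Q'.zero_mem)).resolve_left fun hin => hv₀ ?_
    exact (Submodule.mem_bot D).1 (hb' ▸ (hin : φ (θ v₀) ∈ Q'.comap (algebraMap D _)))
  refine hQ.ne_top ((Ideal.eq_top_iff_one _).2 (E2 ▸ Q.add_mem (hQQ htQ) (Q.sum_mem fun i _ => ?_)))
  refine Q.mul_mem_right _ ?_
  change φ (θ (m₀ i)) ∈ Q.comap (algebraMap D _)
  rw [hm']
  exact hloc _ (hm i)

end Groth.Agent.SubtrLib
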