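import Groth.Agent.SubtrLib.Basic
import Groth.Agent.S14766
import Groth.Agent.SubtrLib.DescendPair
import Groth.Agent.DVRDom.Basic
import Groth.Prelude.Def_SGA1

/-! Submersive and subtrusive morphisms. -/

set_option autoImplicit false
universe u

noncomputable section

open CategoryTheory CategoryTheory.Limits AlgebraicGeometry Topology TopologicalSpace TensorProduct

namespace Groth.Agent.SubtrLib

/-- Lifts of the pair (generic, closed) in a base change to a local domain. -/
def HasLift (V : Type u) [CommRing V] [IsDomain V] [IsLocalRing V] {X Y : Scheme.{u}} (f : X ⟶ Y)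
    (g : Spec (CommRingCat.of V) ⟶ Y) : Prop :=
  ∃ x x' : ↥(pullback f g), x' ⤳ x ∧ pullback.snd f g x = IsLocalRing.closedPoint V ∧
    pullback.snd f g x' = (⟨⊥, Ideal.isPrime_bot⟩ : PrimeSpectrum V)

section Chart

variable {A V B : Type u} [CommRing A] [CommRing V] [IsDomain V] [IsLocalRing V] [CommRing B]
  [Algebra A V] [Algebra A B] {X Y : Scheme.{u}} (f : X ⟶ Y) (u : Spec (CommRingCat.of A) ⟶ Y)
  [IsOpenImmersion u] (j : Spec (CommRingCat.of B) ⟶ X) [IsOpenImmersion j]
  (hj : Spec.map (CommRingCat.ofHom (algebraMap A B)) ≫ u = j ≫ f)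
include hj

/-- The chart of the base change given by affine opens. -/
def chart : Spec (CommRingCat.of (V ⊗[A] B)) ⟶
    pullback f (Spec.map (CommRingCat.ofHom (algebraMap A V)) ≫ u) :=
  (pullbackSpecIso A V B).inv ≫ (pullbackSymmetry _ _).hom ≫
    pullback.map _ _ _ _ j (𝟙 _) u hj (Category.id_comp _).symm

theorem chart_snd :
    chart f u j hj ≫ pullback.snd f (Spec.map (CommRingCat.ofHom (algebraMap A V)) ≫ u) =
      Spec.map (CommRingCat.ofHom (algebraMap V (V ⊗[A] B))) := by
  simp only [chart, Category.assoc, pullback.lift_snd, Category.comp_id, pullbackSymmetry_hom_comp_snd]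
  exact pullbackSpecIso_inv_fst' A V B

theorem hasLift_of_hasPair (h : HasPair V (V ⊗[A] B)) :
    HasLift V f (Spec.map (CommRingCat.ofHom (algebraMap A V)) ≫ u) := by
  obtain ⟨Q', Q, hQ', hQ, hle, h0, hm⟩ := h
  let q : PrimeSpectrum (V ⊗[A] B) := ⟨Q, hQ⟩
  let q' : PrimeSpectrum (V ⊗[A] B) := ⟨Q', hQ'⟩
  refine ⟨chart f u j hj q, chart f u j hj q',
    ((PrimeSpectrum.le_iff_specializes q' q).1 hle).map (chart f u j hj).continuous, ?_, ?_⟩
  · refine (congrArg (fun m => m q) (chart_snd f u j hj)).trans ?_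
    exact PrimeSpectrum.ext hm
  · refine (congrArg (fun m => m q') (chart_snd f u j hj)).trans ?_
    exact PrimeSpectrum.ext h0

theorem hasPair_of_lift
    {x x' : ↥(pullback f (Spec.map (CommRingCat.ofHom (algebraMap A V)) ≫ u))} (hxx : x' ⤳ x)
    (hx : pullback.snd f _ x = IsLocalRing.closedPoint V)
    (hx' : pullback.snd f _ x' = (⟨⊥, Ideal.isPrime_bot⟩ : PrimeSpectrum V))
    (hmem : pullback.fst f (Spec.map (CommRingCat.ofHom (algebraMap A V)) ≫ u) x ∈ Set.range j) :
    HasPair V (V ⊗[A] B) := by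
  have hr : Set.range (chart f u j hj) =
      pullback.fst f (Spec.map (CommRingCat.ofHom (algebraMap A V)) ≫ u) ⁻¹' Set.range j := by
    let e := (pullbackSpecIso A V B).inv ≫ (pullbackSymmetry _ _).hom
    let k := pullback.map (Spec.map (CommRingCat.ofHom (algebraMap A B)))
      (Spec.map (CommRingCat.ofHom (algebraMap A V))) f
      (Spec.map (CommRingCat.ofHom (algebraMap A V)) ≫ u) j (𝟙 _) u hj (Category.id_comp _).symm
    have h1 : Set.range (e ≫ k) = Set.range k := by
      rw [Scheme.Hom.comp_base, TopCat.coe_comp, Function.Surjective.range_comp]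
      exact e.surjective
    have h2 : chart f u j hj = e ≫ k := by simp [chart, e, k]
    rw [h2, h1, Scheme.Pullback.range_map]
    simp
  obtain ⟨q, hq⟩ := hr.ge hmem
  obtain ⟨q', hq'⟩ := hr.ge (hxx.map (pullback.fst f _).continuous |>.mem_open
    j.opensRange.2 hmem)
  have : IsOpenImmersion (chart (V := V) f u j hj) := by unfold chart; infer_instance
  have hle : q'.asIdeal ≤ q.asIdeal := (PrimeSpectrum.le_iff_specializes q' q).2
    ((chart f u j hj).isEmbedding.isInducing.specializes_iff.1 (by rw [hq, hq']; exact hxx))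
  refine ⟨q'.asIdeal, q.asIdeal, q'.isPrime, q.isPrime, hle, ?_, ?_⟩
  · have := (congrArg (fun m => m q') (chart_snd f u j hj)).symm.trans
      ((congrArg (pullback.snd f _) hq').trans hx')
    exact congrArg PrimeSpectrum.asIdeal this
  · have := (congrArg (fun m => m q) (chart_snd f u j hj)).symm.trans
      ((congrArg (pullback.snd f _) hq).trans hx)
    exact congrArg PrimeSpectrum.asIdeal this

end Chart

/-- Over a locally Noetherian base, discrete valuation rings suffice to test S-subtrusivity. -/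
theorem univSSubtrusive_of_dvr {X Y : Scheme.{u}} [IsLocallyNoetherian Y] (f : X ⟶ Y) [QuasiCompact f]
    (h : ∀ (D : Type u) [CommRing D] [IsDomain D] [IsDiscreteValuationRing D]
      (g : Spec (CommRingCat.of D) ⟶ Y), HasLift D f g) :
    Subtr.UnivSSubtrusive f := by
  refine univSSubtrusive_of_valuation f fun V _ _ _ g => ?_
  change HasLift V f g
  obtain ⟨_, ⟨U, hU, rfl⟩, hgU, -⟩ := Y.isBasis_affineOpens.exists_subset_of_mem_open
    (Set.mem_univ (g (IsLocalRing.closedPoint V))) isOpen_univ
  let A : Type u := Γ(Y, U)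
  have : IsNoetherianRing A := IsLocallyNoetherian.component_noetherian ⟨U, hU⟩
  let u : Spec (CommRingCat.of A) ⟶ Y := hU.fromSpec
  have hru : Set.range u = U := hU.range_fromSpec
  have hrg : Set.range g ⊆ Set.range u := by
    rw [hru]
    rintro _ ⟨s, rfl⟩
    exact ((IsLocalRing.specializes_closedPoint (R := V) s).map g.continuous).mem_open U.2 hgU
  let ψ : A →+* V := (Spec.preimage (IsOpenImmersion.lift u g hrg)).hom
  letI : Algebra A V := ψ.toAlgebra
  have hg : Spec.map (CommRingCat.ofHom (algebraMap A V)) ≫ u = g := by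
    change Spec.map (CommRingCat.ofHom ψ) ≫ u = g
    rw [show CommRingCat.ofHom ψ = Spec.preimage (IsOpenImmersion.lift u g hrg) from rfl,
      Spec.map_preimage, IsOpenImmersion.lift_fac]
  suffices HasLift V f (Spec.map (CommRingCat.ofHom (algebraMap A V)) ≫ u) by rwa [hg] at this
  by_contra hV
  have : CompactSpace ↥(f ⁻¹ᵁ U) := isCompact_iff_compactSpace.mp (f.isCompact_preimage hU.isCompact)
  obtain ⟨σ, hσ, hcov⟩ := (isCompact_and_isOpen_iff_finite_and_eq_biUnion_affineOpens).mp
    ⟨f.isCompact_preimage hU.isCompact, (f ⁻¹ᵁ U).2⟩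
  have hle : ∀ W ∈ σ, W.1 ≤ f ⁻¹ᵁ U := fun W hW a ha => hcov.ge (Set.mem_iUnion₂.mpr ⟨W, hW, ha⟩)
  have := hσ.to_subtype
  have hchart : ∀ W : σ, ∃ (B : Type u) (_ : CommRing B) (_ : Algebra A B)
      (j : Spec (CommRingCat.of B) ⟶ X) (_ : IsOpenImmersion j),
      Spec.map (CommRingCat.ofHom (algebraMap A B)) ≫ u = j ≫ f ∧ Set.range j = W.1.1 := by
    intro W
    refine ⟨Γ(X, W.1.1), inferInstance, (f.appLE U W.1.1 (hle W.1 W.2)).hom.toAlgebra,
      W.1.2.fromSpec, inferInstance, ?_, W.1.2.range_fromSpec⟩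
    exact hU.SpecMap_appLE_fromSpec f W.1.2 (hle W.1 W.2)
  choose B _ _ j _ hj hrj using hchart
  choose S hS hstage using fun W : σ => exists_stage (A := A) (V := V) (B := B W)
    (fun hp => hV (hasLift_of_hasPair f u (j W) (hj W) hp))
  have : Fintype σ := Fintype.ofFinite _
  let S' : Subalgebra A V := Finset.univ.sup S
  have hS'fg : S'.FG := Finset.sup_induction Subalgebra.fg_bot (fun _ h _ h' => h.sup h') fun i _ => hS i
  have : Algebra.FiniteType A S' := (Subalgebra.fg_iff_finiteType S').mp hS'fg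
  have : IsNoetherianRing S' := Algebra.FiniteType.isNoetherianRing A S'
  let q : Ideal S' := (IsLocalRing.maximalIdeal V).comap S'.val.toRingHom
  have hq : q.IsPrime := Ideal.comap_isPrime _ _
  obtain ⟨D, _, _, _, φ, hφ, hφq⟩ : ∃ (D : Type u) (_ : CommRing D) (_ : IsDomain D)
      (_ : IsDiscreteValuationRing D) (φ : S' →+* D), Function.Injective φ ∧
        ∀ s ∈ q, φ s ∈ IsLocalRing.maximalIdeal D := by
    by_cases hq0 : q = ⊥
    · refine ⟨PowerSeries (FractionRing S'), inferInstance, inferInstance, inferInstance,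
        (PowerSeries.C : FractionRing S' →+* _).comp (algebraMap S' (FractionRing S')), ?_, ?_⟩
      · exact PowerSeries.C_injective.comp (IsFractionRing.injective S' (FractionRing S'))
      · intro s hs
        rw [hq0, Submodule.mem_bot] at hs
        rw [hs, map_zero]
        exact Ideal.zero_mem _
    · let T := Localization.AtPrime q
      have hT : ¬ IsField T := by
        intro hf
        rw [IsLocalRing.isField_iff_maximalIdeal_eq] at hf
        obtain ⟨s, hs, hs0⟩ := Submodule.exists_mem_ne_zero_of_ne_bot hq0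
        have h1 := (IsLocalization.AtPrime.to_map_mem_maximal_iff T q s).mpr hs
        rw [hf, Submodule.mem_bot] at h1
        exact hs0 ((map_eq_zero_iff _ (IsLocalization.injective T q.primeCompl_le_nonZeroDivisors)).1 h1)
      obtain ⟨D, _, _, _, φ, hφ, hl⟩ := DVRDom.exists_dvr T hT
      refine ⟨D, inferInstance, inferInstance, inferInstance, φ.comp (algebraMap S' T),
        hφ.comp (IsLocalization.injective T q.primeCompl_le_nonZeroDivisors), fun s hs hu => ?_⟩
      exact (IsLocalization.AtPrime.to_map_mem_maximal_iff T q s).mpr hs (hl.map_nonunit _ hu)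
  letI : Algebra A D := (φ.comp (algebraMap A S')).toAlgebra
  let φ' : S' →ₐ[A] D := { toRingHom := φ, commutes' := fun _ => rfl }
  obtain ⟨x, x', hxx, hx, hx'⟩ := h D (Spec.map (CommRingCat.ofHom (algebraMap A D)) ≫ u)
  have hxU : pullback.fst f (Spec.map (CommRingCat.ofHom (algebraMap A D)) ≫ u) x ∈ f ⁻¹ᵁ U := by
    change (pullback.fst f _ ≫ f) x ∈ U
    rw [pullback.condition]
    exact hru.le ⟨_, rfl⟩
  obtain ⟨W, hW, hxW⟩ := Set.mem_iUnion₂.1 (hcov.le hxU)
  exact hstage ⟨W, hW⟩ S' (Finset.le_sup (Finset.mem_univ _)) D φ' hφ (fun s hs => hφq s hs)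
    (hasPair_of_lift f u (j ⟨W, hW⟩) (hj ⟨W, hW⟩) hxx hx hx' ((hrj ⟨W, hW⟩).ge hxW))

theorem isQuotientMap_of_isSSubtrusive {X Y : Scheme.{u}} (f : X ⟶ Y) [QuasiCompact f]
    (hf : Subtr.IsSSubtrusive f) : Topology.IsQuotientMap f := by
  refine Topology.isQuotientMap_iff_isClosed.2 ⟨surjective_of_isSSubtrusive hf, fun E =>
    ⟨fun h => h.preimage f.continuous, fun h => ?_⟩⟩
  have hpro : ProCons.IsProConstructible E := by
    rw [← Set.image_preimage_eq E (surjective_of_isSSubtrusive hf)]
    exact H8ProCons.isProConstructible_image f (H8ProCons.isProConstructible_iff_compl.2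
      (H8ProCons.isIndConstructible_of_isOpen h.isOpen_compl))
  refine isClosed_of_closure_subset fun y hy => ?_
  obtain ⟨y', hy', hyy⟩ := exists_specializes_of_mem_closure_proCons hpro hy
  obtain ⟨x, x', hxx, hx, hx'⟩ := hf hyy
  have : x ∈ f ⁻¹' E := hxx.mem_closed h (show f x' ∈ E from hx' ▸ hy')
  exact hx ▸ this

theorem univSubmersive_of_univSSubtrusive {X Y : Scheme.{u}} (f : X ⟶ Y) [QuasiCompact f]
    (hf : Subtr.UnivSSubtrusive f) : SGA1.UnivSubmersive f := fun X' Y' i₁ i₂ f' sq => by
  have : QuasiCompact f' := MorphismProperty.of_isPullback sq.flip (inferInstance : QuasiCompact f)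
  exact isQuotientMap_of_isSSubtrusive f' (hf i₁ i₂ f' sq)

theorem surjective_of_quotient_valuation {X Y : Scheme.{u}} (f : X ⟶ Y)
    (h : ∀ (V : Type u) [CommRing V] [IsDomain V] [ValuationRing V]
      (g : Spec (CommRingCat.of V) ⟶ Y), Topology.IsQuotientMap (pullback.snd f g)) :
    Function.Surjective f := fun y => by
  obtain ⟨z, -⟩ := (h (IsLocalRing.ResidueField (Y.presheaf.stalk y)) (Y.fromSpecResidueField y)).surjective
    (IsLocalRing.closedPoint (IsLocalRing.ResidueField (Y.presheaf.stalk y)))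
  refine ⟨pullback.fst f (Y.fromSpecResidueField y) z, ?_⟩
  change (pullback.fst f (Y.fromSpecResidueField y) ≫ f) z = y
  rw [pullback.condition]
  exact Scheme.fromSpecResidueField_apply y _

theorem isQuotientMap_of_valuation {X Y : Scheme.{u}} (f : X ⟶ Y) [QuasiCompact f]
    (h : ∀ (V : Type u) [CommRing V] [IsDomain V] [ValuationRing V]
      (g : Spec (CommRingCat.of V) ⟶ Y), Topology.IsQuotientMap (pullback.snd f g)) :
    Topology.IsQuotientMap f := by
  have hsurj := surjective_of_quotient_valuation f h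
  refine Topology.isQuotientMap_iff_isClosed.2 ⟨hsurj, fun E =>
    ⟨fun h => h.preimage f.continuous, fun hE => ?_⟩⟩
  have hpro : ProCons.IsProConstructible E := by
    rw [← Set.image_preimage_eq E hsurj]
    exact H8ProCons.isProConstructible_image f (H8ProCons.isProConstructible_iff_compl.2
      (H8ProCons.isIndConstructible_of_isOpen hE.isOpen_compl))
  refine isClosed_of_closure_subset fun y hy => ?_
  obtain ⟨y', hy', hyy⟩ := exists_specializes_of_mem_closure_proCons hpro hy
  obtain ⟨V, _, _, _, g, hg', hg⟩ := exists_valuation_map hyy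
  have hcl : IsClosed (g ⁻¹' E) := by
    refine ((h V g).isClosed_preimage (s := g ⁻¹' E)).1 ?_
    have : pullback.snd f g ⁻¹' (g ⁻¹' E) = pullback.fst f g ⁻¹' (f ⁻¹' E) := by
      ext z
      change (pullback.snd f g ≫ g) z ∈ E ↔ (pullback.fst f g ≫ f) z ∈ E
      rw [pullback.condition]
    rw [this]
    exact hE.preimage (pullback.fst f g).continuous
  rw [← hg]
  exact (spec_bot_specializes V (IsLocalRing.closedPoint V)).mem_closed hcl
    (show g _ ∈ E from hg'.symm ▸ hy')

theorem univSubmersive_iff_valuation {X Y : Scheme.{u}} (f : X ⟶ Y) [QuasiCompact f] :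
    SGA1.UnivSubmersive f ↔ ∀ (V : Type u) [CommRing V] [IsDomain V] [ValuationRing V]
      (g : Spec (CommRingCat.of V) ⟶ Y), Topology.IsQuotientMap (pullback.snd f g) := by
  refine ⟨fun h V _ _ _ g => h _ _ _ (IsPullback.of_hasPullback f g).flip,
    fun h X' Y' i₁ i₂ f' sq => ?_⟩
  have : QuasiCompact f' := MorphismProperty.of_isPullback sq.flip (inferInstance : QuasiCompact f)
  refine isQuotientMap_of_valuation f' fun V _ _ _ g => ?_
  let e := ((IsPullback.of_hasPullback f' g).paste_horiz sq.flip).isoPullback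
  have he : e.hom ≫ pullback.snd f (g ≫ i₂) = pullback.snd f' g :=
    IsPullback.isoPullback_hom_snd _
  rw [← he, Scheme.Hom.comp_base, TopCat.coe_comp]
  exact (h V (g ≫ i₂)).comp e.hom.homeomorph.isQuotientMap

theorem hasLift_of_submersive {X Y : Scheme.{u}} (f : X ⟶ Y) (hf : SGA1.UnivSubmersive f)
    (D : Type u) [CommRing D] [IsDomain D] [IsDiscreteValuationRing D]
    (g : Spec (CommRingCat.of D) ⟶ Y) : HasLift D f g := by
  have hq : Topology.IsQuotientMap (pullback.snd f g) := hf _ _ _ (IsPullback.of_hasPullback f g).flip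
  exact (S14766.result D (pullback.snd f g)).1 hq (spec_bot_specializes D _)

end Groth.Agent.SubtrLib
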