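import Mathlib

/-! Valuation rings realising a chain of primes; lifting chains along flat maps. -/

set_option autoImplicit false
universe u

noncomputable section

namespace Groth.Agent.SubtrLib

open IsLocalRing

/-- The composite of a valuation subring with one of its residue field. -/
def composite {L : Type u} [Field L] (V : ValuationSubring L)
    (W : ValuationSubring (ResidueField V)) : ValuationSubring L :=
  { ((W.toSubring.comap (residue V)).map V.toSubring.subtype) with
    mem_or_inv_mem' := fun x => by
      change x ∈ (W.toSubring.comap (residue V)).map V.toSubring.subtype ∨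
        x⁻¹ ∈ (W.toSubring.comap (residue V)).map V.toSubring.subtype
      rcases V.mem_or_inv_mem x with h | h
      · by_cases hu : IsUnit (⟨x, h⟩ : V)
        · obtain ⟨v, hv⟩ := isUnit_iff_exists_inv.1 hu
          have hvx : (v : L) = x⁻¹ := (inv_eq_of_mul_eq_one_right (congrArg Subtype.val hv)).symm
          have hr : residue V v = (residue V ⟨x, h⟩)⁻¹ :=
            (inv_eq_of_mul_eq_one_right (by rw [← map_mul, hv, map_one])).symm
          rcases W.mem_or_inv_mem (residue V ⟨x, h⟩) with h' | h'
          · exact Or.inl ⟨⟨x, h⟩, h', rfl⟩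
          · exact Or.inr ⟨v, (show residue V v ∈ W.toSubring from hr ▸ h'), hvx⟩
        · refine Or.inl ⟨⟨x, h⟩, ?_, rfl⟩
          change residue V ⟨x, h⟩ ∈ W.toSubring
          rw [(residue_eq_zero_iff _).2 ((mem_maximalIdeal _).2 hu)]
          exact W.toSubring.zero_mem
      · by_cases hu : IsUnit (⟨x⁻¹, h⟩ : V)
        · obtain ⟨v, hv⟩ := isUnit_iff_exists_inv.1 hu
          have hvx : (v : L) = x := by
            have := (inv_eq_of_mul_eq_one_right (congrArg Subtype.val hv)).symm
            simpa using this
          have hr : residue V v = (residue V ⟨x⁻¹, h⟩)⁻¹ :=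
            (inv_eq_of_mul_eq_one_right (by rw [← map_mul, hv, map_one])).symm
          rcases W.mem_or_inv_mem (residue V ⟨x⁻¹, h⟩) with h' | h'
          · exact Or.inr ⟨⟨x⁻¹, h⟩, h', rfl⟩
          · exact Or.inl ⟨v, (show residue V v ∈ W.toSubring from hr ▸ h'), hvx⟩
        · refine Or.inr ⟨⟨x⁻¹, h⟩, ?_, rfl⟩
          change residue V ⟨x⁻¹, h⟩ ∈ W.toSubring
          rw [(residue_eq_zero_iff _).2 ((mem_maximalIdeal _).2 hu)]
          exact W.toSubring.zero_mem }

theorem composite_le {L : Type u} [Field L] (V : ValuationSubring L)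
    (W : ValuationSubring (ResidueField V)) {x : L} (hx : x ∈ composite V W) : x ∈ V := by
  obtain ⟨v, -, rfl⟩ := hx
  exact v.2

/-- The map from the composite to the valuation ring of the residue field. -/
def compositeTo {L : Type u} [Field L] (V : ValuationSubring L) (W : ValuationSubring (ResidueField V)) :
    composite V W →+* W :=
  ((residue V).comp (Subring.inclusion (T := V.toSubring) fun _ hx => composite_le V W hx :
    composite V W →+* V)).codRestrict W.toSubring fun x => by
      obtain ⟨v, hv, hvx⟩ := x.2
      have : (⟨(x : L), composite_le V W x.2⟩ : V) = v := Subtype.ext hvx.symm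
      change residue V _ ∈ W.toSubring
      exact (congrArg (residue V) this).symm ▸ hv

theorem exists_valuation_chain : ∀ (n : ℕ) {R : Type u} [CommRing R] {L : Type u} [Field L]
    (φ : R →+* L) (p : Fin (n + 1) → Ideal R), (∀ i, (p i).IsPrime) → Monotone p →
    p 0 = RingHom.ker φ →
    ∃ (V : ValuationSubring L) (h : ∀ r, φ r ∈ V.toSubring) (P : Fin (n + 1) → Ideal V),
      (∀ i, (P i).IsPrime) ∧ Monotone P ∧ P 0 = ⊥ ∧
      ∀ i, (P i).comap (φ.codRestrict V.toSubring h) = p i := by
  intro n
  induction n with
  | zero =>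
    intro R _ L _ φ p hp hmon h0
    refine ⟨⊤, fun r => ValuationSubring.mem_top _, fun _ => ⊥, fun _ => Ideal.isPrime_bot,
      monotone_const, rfl, fun i => ?_⟩
    rw [Fin.fin_one_eq_zero i, h0]
    ext r
    simp only [Ideal.mem_comap, Submodule.mem_bot, RingHom.mem_ker]
    exact Subtype.ext_iff
  | succ n ih =>
    intro R _ L _ φ p hp hmon h0
    have : (p 1).IsPrime := hp 1
    have hker : RingHom.ker φ ≤ p 1 := h0 ▸ hmon (Fin.zero_le _)
    let P₁ : Ideal φ.range := (p 1).map φ.rangeRestrict
    have hP₁ : P₁.IsPrime := Ideal.map_isPrime_of_surjective φ.rangeRestrict_surjective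
      (by rwa [RingHom.ker_rangeRestrict])
    have hc : P₁.comap φ.rangeRestrict = p 1 := by
      rw [Ideal.comap_map_of_surjective _ φ.rangeRestrict_surjective, sup_eq_left,
        ← RingHom.ker_eq_comap_bot, RingHom.ker_rangeRestrict]
      exact hker
    obtain ⟨V₁, hV₁⟩ := (LocalSubring.ofPrime φ.range P₁).exists_le_valuationSubring
    have hle : φ.range ≤ V₁.toSubring := (LocalSubring.le_ofPrime φ.range P₁).trans hV₁.1
    let φ₁ : R →+* V₁ := φ.codRestrict V₁.toSubring fun r => hle ⟨r, rfl⟩
    have hφ₁ : RingHom.ker ((residue V₁).comp φ₁) = p 1 := by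
      rw [← hc]
      ext r
      rw [RingHom.mem_ker, RingHom.comp_apply, residue_eq_zero_iff, Ideal.mem_comap,
        ← IsLocalization.AtPrime.to_map_mem_maximal_iff (R := φ.range)
          (LocalSubring.ofPrime φ.range P₁).toSubring P₁]
      simp only [mem_maximalIdeal, mem_nonunits_iff]
      constructor
      · intro h hu
        exact h (hu.map (Subring.inclusion hV₁.1))
      · intro h hu
        exact h (hV₁.2.1 _ hu)
    obtain ⟨W, hW, Q, hQp, hQm, hQ0, hQc⟩ := ih ((residue V₁).comp φ₁) (fun i => p i.succ)
      (fun i => hp i.succ) (fun i j h => hmon (Fin.succ_le_succ_iff.2 h)) hφ₁.symm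
    have hmem : ∀ r, φ r ∈ (composite V₁ W).toSubring := fun r => ⟨φ₁ r, hW r, rfl⟩
    refine ⟨composite V₁ W, hmem, Fin.cons ⊥ (fun i => (Q i).comap (compositeTo V₁ W)), ?_, ?_, rfl, ?_⟩
    · refine Fin.cases ?_ ?_
      · simp only [Fin.cons_zero]; exact Ideal.isPrime_bot
      · intro i; simp only [Fin.cons_succ]; exact @Ideal.comap_isPrime _ _ _ _ _ _ _ _ _ (hQp i)
    · refine Fin.cases ?_ ?_
      · intro j _; simp only [Fin.cons_zero]; exact bot_le
      · intro i
        refine Fin.cases ?_ ?_
        · intro h; exact absurd h (by simp [Fin.le_def])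
        · intro j h
          simp only [Fin.cons_succ]
          exact Ideal.comap_mono (hQm (Fin.succ_le_succ_iff.1 h))
    · refine Fin.cases ?_ ?_
      · simp only [Fin.cons_zero]
        rw [h0]
        ext r
        simp only [Ideal.mem_comap, Submodule.mem_bot, RingHom.mem_ker]
        exact Subtype.ext_iff
      · intro i
        simp only [Fin.cons_succ]
        rw [Ideal.comap_comap, ← hQc i]
        congr 1

theorem exists_chain_of_goingDown {A B : Type*} [CommRing A] [CommRing B] [Algebra A B]
    [Algebra.HasGoingDown A B] : ∀ (n : ℕ) (p : Fin (n + 1) → Ideal A), (∀ i, (p i).IsPrime) →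
    Monotone p → ∀ (q : Ideal B) [q.IsPrime], q.under A = p (Fin.last n) →
    ∃ P : Fin (n + 1) → Ideal B, (∀ i, (P i).IsPrime) ∧ Monotone P ∧ P (Fin.last n) = q ∧
      ∀ i, (P i).under A = p i := by
  intro n
  induction n with
  | zero =>
    intro p _ _ q hq hqp
    exact ⟨fun _ => q, fun _ => hq, monotone_const, rfl, fun i => by rw [Fin.fin_one_eq_zero i]; exact hqp⟩
  | succ n ih =>
    intro p hp hmon q hq hqp
    have : q.LiesOver (p (Fin.last (n + 1))) := ⟨hqp.symm⟩
    have := hp (Fin.last n).castSucc
    have := hp (Fin.last (n + 1))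
    obtain ⟨q', hle, hq', hq'o⟩ := q.exists_ideal_le_liesOver_of_le (p := p (Fin.last n).castSucc)
      (q := p (Fin.last (n + 1))) (hmon (Fin.le_last _))
    obtain ⟨P, hP, hPm, hPl, hPu⟩ := ih (fun i => p i.castSucc) (fun i => hp _)
      (fun i j h => hmon (Fin.castSucc_le_castSucc_iff.2 h)) q' hq'o.over.symm
    refine ⟨Fin.snoc P q, ?_, ?_, Fin.snoc_last _ _, ?_⟩
    · refine Fin.lastCases ?_ ?_
      · simpa using hq
      · intro i; simpa using hP i
    · intro i
      induction i using Fin.lastCases with
      | last =>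
        intro j h
        rw [le_antisymm (Fin.le_last j) h]
      | cast i =>
        intro j h
        induction j using Fin.lastCases with
        | last =>
          simp only [Fin.snoc_castSucc, Fin.snoc_last]
          exact (hPm (Fin.le_last i)).trans (hPl.le.trans hle)
        | cast j => simpa using hPm (Fin.castSucc_le_castSucc_iff.1 h)
    · refine Fin.lastCases ?_ ?_
      · simpa using hqp
      · intro i; simpa using hPu i

end Groth.Agent.SubtrLib
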